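import Groth.Agent.SemiAbLib.Exponent
import Groth.Agent.SemiAbLib.OverField
import Groth.Agent.WeilResLib.PowEtale
import Groth.Agent.AVAmpleLib.Dense
import Groth.Agent.S3030
import Groth.Agent.DensePtsLib.AlgClosed
import Mathlib.AlgebraicGeometry.IdealSheaf.Functorial

/-!
Powers factor through the closure of prime-to-`p` torsion.
-/

set_option autoImplicit false
set_option linter.style.haveILetI false
set_option backward.isDefEq.respectTransparency false
set_option backward.isDefEq.respectTransparency.types false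
set_option maxHeartbeats 1000000

noncomputable section

universe u

open CategoryTheory CategoryTheory.Limits MonoidalCategory CartesianMonoidalCategory AlgebraicGeometry
open scoped MonObj
open Groth.Agent

attribute [-instance] CategoryTheory.Hom.commGroup

namespace TorsClosure

variable {k : Type u} [Field k]

/-- Prime-power torsion points are dense in a semi-abelian variety over an algebraically closed field. -/
theorem closure_torsPow_semiAb [IsAlgClosed k] {G : Over (Spec (CommRingCat.of k))} [GrpObj G]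
    [LocallyOfFiniteType G.hom] [QuasiCompact G.hom] (hG : SemiAbLib.IsSemiAb G) (l : ℕ) [Fact l.Prime]
    (hl : (l : k) ≠ 0) : closure (AVAmpleLib.pt '' AVAmpleLib.torsPow G l) = Set.univ := by
  haveI := hG.comm.2
  letI : CommGroup (𝟙_ (Over (Spec (CommRingCat.of k))) ⟶ G) := Hom.commGroup
  obtain ⟨B, _, i, hi, hic, -, hlft, hr⟩ := AVAmpleLib.exists_reduced_subgroup (AVAmpleLib.torsPow G l)
    ⟨0, one_pow _⟩
    (fun a ⟨m, ha⟩ b ⟨m', hb⟩ => ⟨m + m', by
      rw [mul_pow, pow_add, pow_mul, ha, one_pow, Nat.mul_comm, pow_mul, hb, one_pow, _root_.one_mul]⟩)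
    (fun a ⟨m, ha⟩ => ⟨m, by rw [inv_pow, ha, inv_one]⟩)
  haveI := hi; haveI := hic; haveI := hlft
  haveI : IsSeparated G.hom := GrpField.isSeparated_grp (G := G)
  haveI : Flat B.hom := GrpField.flat_field _
  haveI : Flat G.hom := GrpField.flat_field _
  haveI : Mono i := Over.mono_of_mono_left i
  haveI : QuasiCompact i.left := inferInstance
  obtain ⟨Q, _, q, hq, hqf, hqs, -, hqk, hQsep, -, -⟩ := Groth.Agent.S3030.result k B G i
    (fun T g m => ⟨m, by
      letI : CommGroup (T ⟶ G) := Hom.commGroup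
      rw [_root_.mul_comm g, mul_inv_cancel_right]⟩)
  haveI := hq; haveI := hQsep
  have hq1 : q = 1 := hG.eq_one_of_torsion l hl q fun a ha => by
    have hmem : a.left (IsLocalRing.closedPoint k) ∈ Set.range i.left := by
      rw [hr]; exact subset_closure ⟨a, ha, rfl⟩
    haveI : IsReduced (𝟙_ (Over (Spec (CommRingCat.of k)))).left :=
      inferInstanceAs (IsReduced (Spec (CommRingCat.of k)))
    obtain ⟨b, hb⟩ := Groth.Agent.DensePts.factors_of_range a i (by
      rintro _ ⟨x, rfl⟩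
      rwa [show x = (IsLocalRing.closedPoint k : PrimeSpectrum k) from @Subsingleton.elim (PrimeSpectrum k) _ _ _])
    rw [← hb, Category.assoc, hqk.w, ← Category.assoc, Hom.one_def, toUnit_unique (b ≫ toUnit B) (toUnit _)]
  obtain ⟨l', hl'⟩ := AntiAffLib.exists_lift_kernel hqk (𝟙 G) (by rw [Category.id_comp, hq1])
  refine Set.eq_univ_of_forall fun x => hr ▸ ⟨l'.left x, ?_⟩
  rw [← Scheme.Hom.comp_apply, ← Over.comp_left, hl']
  rfl

/-- Torsion points of `l`-power order are dense in a semi-abelian variety. -/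
theorem closure_torsion_semiAb {S : Over (Spec (CommRingCat.of k))} [GrpObj S] [LocallyOfFiniteType S.hom]
    [QuasiCompact S.hom] (hS : SemiAbLib.IsSemiAb S) (l : ℕ) [Fact l.Prime] (hl : (l : k) ≠ 0) :
    closure (⋃ j : ℕ, (HPow.hPow (α := S ⟶ S) (𝟙 S) (l ^ j)).left ⁻¹' {GrpField.unitPt S}) = Set.univ := by
  let K := AlgebraicClosure k
  let F := AVAmpleLib.bcF (k := k) K
  letI : GrpObj (F.obj S) := Functor.grpObjObj
  haveI : LocallyOfFiniteType (F.obj S).hom := inferInstanceAs (LocallyOfFiniteType (pullback.snd S.hom _))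
  haveI : QuasiCompact (F.obj S).hom := inferInstanceAs (QuasiCompact (pullback.snd S.hom _))
  have hlK : (l : K) ≠ 0 := by
    rw [← map_natCast (algebraMap k K) l]
    exact (map_ne_zero_iff _ (algebraMap k K).injective).2 hl
  have hd := closure_torsPow_semiAb (SemiAbLib.isSemiAb_bc K hS) l hlK
  let ξ : Spec (CommRingCat.of K) ⟶ Spec (CommRingCat.of k) := Spec.map (CommRingCat.ofHom (algebraMap k K))
  let pr : (F.obj S).left ⟶ S.left := pullback.fst S.hom ξ
  haveI : Surjective pr := MorphismProperty.pullback_fst (P := @Surjective) _ _ (SemiAbLib.surjective_spec _)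
  refine Set.eq_univ_of_forall fun y => ?_
  obtain ⟨y', rfl⟩ := pr.surjective y
  have hy' : y' ∈ closure (AVAmpleLib.pt '' AVAmpleLib.torsPow (F.obj S) l) := hd ▸ Set.mem_univ _
  refine map_mem_closure pr.continuous hy' ?_
  rintro _ ⟨a, ⟨j, ha⟩, rfl⟩
  refine Set.mem_iUnion.2 ⟨j, ?_⟩
  have h1 : a ≫ F.map (HPow.hPow (α := S ⟶ S) (𝟙 S) (l ^ j)) = 1 := by
    rw [SemiAbLib.map_pow_id, MonObj.comp_pow, Category.comp_id, ha]
  let t : (𝟙_ (Over (Spec (CommRingCat.of K)))).left := (IsLocalRing.closedPoint K : PrimeSpectrum K)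
  have h2 : (HPow.hPow (α := S ⟶ S) (𝟙 S) (l ^ j)).left (pr (a.left t)) =
      pr ((F.map (HPow.hPow (α := S ⟶ S) (𝟙 S) (l ^ j))).left (a.left t)) := by
    rw [← Scheme.Hom.comp_apply, ← Scheme.Hom.comp_apply (F.map _).left]
    have e2 : pr ≫ (HPow.hPow (α := S ⟶ S) (𝟙 S) (l ^ j)).left =
        (F.map (HPow.hPow (α := S ⟶ S) (𝟙 S) (l ^ j))).left ≫ pr := (pullback.lift_fst _ _ _).symm
    rw [e2]
  show (HPow.hPow (α := S ⟶ S) (𝟙 S) (l ^ j)).left (pr (a.left t)) = GrpField.unitPt S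
  rw [h2, ← Scheme.Hom.comp_apply a.left, ← Over.comp_left, h1]
  have e1 : (1 : 𝟙_ (Over (Spec (CommRingCat.of K))) ⟶ F.obj S) =
      Functor.LaxMonoidal.ε F ≫ F.map (1 : 𝟙_ (Over (Spec (CommRingCat.of k))) ⟶ S) := by
    rw [SemiAbLib.map_one_pt, MonObj.comp_one]
  have e2 : (F.map (1 : 𝟙_ (Over (Spec (CommRingCat.of k))) ⟶ S)).left ≫ pr =
      pullback.fst _ ξ ≫ (1 : 𝟙_ (Over (Spec (CommRingCat.of k))) ⟶ S).left := pullback.lift_fst _ _ _
  rw [e1, Over.comp_left, Scheme.Hom.comp_apply, ← Scheme.Hom.comp_apply (F.map _).left, e2, Scheme.Hom.comp_apply]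
  show _ = (η[S] : 𝟙_ (Over (Spec (CommRingCat.of k))) ⟶ S).left _
  rw [MonObj.one_eq_one]
  exact congrArg _ (Subsingleton.elim (α := PrimeSpectrum k) _ _)

/-- A power map factors through the closure of the prime-to-`p` torsion. -/
theorem exists_pow_factor (p : ℕ) [CharP k p] (hp : p.Prime) (G : Over (Spec (CommRingCat.of k))) [GrpObj G]
    [IsCommMonObj G] [LocallyOfFiniteType G.hom] [QuasiCompact G.hom] :
    ∃ (N : ℕ) (f : G.left ⟶ (⨅ (n : ℕ) (_ : 0 < n ∧ Nat.Coprime n p),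
        (η[G].left.ker).comap (𝟙 G ^ n : G ⟶ G).left).subscheme),
      f ≫ (⨅ (n : ℕ) (_ : 0 < n ∧ Nat.Coprime n p), (η[G].left.ker).comap (𝟙 G ^ n : G ⟶ G).left).subschemeι =
        (𝟙 G ^ (p ^ N) : G ⟶ G).left := by
  haveI : Fact p.Prime := ⟨hp⟩
  obtain ⟨S, _, s, n, hs, hsc, hS, hn, g₀, hg₀⟩ := SemiAbLib.exists_semiAb_exponent p G
  haveI := hs; haveI := hsc
  haveI : LocallyOfFiniteType S.hom := by rw [← Over.w s]; infer_instance
  haveI : QuasiCompact S.hom := by rw [← Over.w s]; infer_instance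
  obtain ⟨hSs, hSc⟩ := hS.props
  haveI := hSs
  obtain ⟨a, m, hm, hnm⟩ := Nat.exists_eq_pow_mul_and_not_dvd hn.ne' p hp.one_lt.ne'
  have hmk : (m : k) ≠ 0 := fun h => hm ((CharP.cast_eq_zero_iff k p m).1 h)
  obtain ⟨l, hlb, hlp⟩ := Nat.exists_infinite_primes (p + 1)
  haveI : Fact l.Prime := ⟨hlp⟩
  have hlp' : ¬ p ∣ l := fun h => by
    rcases (Nat.dvd_prime hlp).1 h with h1 | h1
    · exact hp.one_lt.ne' h1
    · omega
  have hlk : (l : k) ≠ 0 := fun h => hlp' ((CharP.cast_eq_zero_iff k p l).1 h)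
  haveI : Etale (HPow.hPow (α := G ⟶ G) (𝟙 G) m).left := WeilResLib.etale_pow G m hmk
  let P := pullback (HPow.hPow (α := G ⟶ G) (𝟙 G) m) s
  have sq : IsPullback (pullback.fst (HPow.hPow (α := G ⟶ G) (𝟙 G) m) s) (pullback.snd _ s) _ s :=
    IsPullback.of_hasPullback _ _
  let π : P ⟶ G := pullback.fst _ _
  let gP : P ⟶ S := pullback.snd _ _
  haveI : IsClosedImmersion π.left :=
    MorphismProperty.of_isPullback (P := @IsClosedImmersion) (sq.map (Over.forget _)).flip hsc
  haveI : Etale gP.left :=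
    MorphismProperty.of_isPullback (P := @Etale) (sq.map (Over.forget _)) ‹Etale (HPow.hPow (α := G ⟶ G) (𝟙 G) m).left›
  haveI : Smooth P.hom := by rw [← Over.w gP]; infer_instance
  haveI : IsReduced P.left := AlgSpLib.isReduced_of_smooth P.hom
  let D : Set S.left := ⋃ j : ℕ, (HPow.hPow (α := S ⟶ S) (𝟙 S) (l ^ j)).left ⁻¹' {GrpField.unitPt S}
  have hD : Dense (gP.left ⁻¹' D) :=
    (dense_iff_closure_eq.2 (closure_torsion_semiAb hS l hlk)).preimage gP.left.isOpenMap
  let J : ℕ → G.left.IdealSheafData := fun n => (η[G].left.ker).comap (𝟙 G ^ n : G ⟶ G).left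
  let I : G.left.IdealSheafData := ⨅ (n : ℕ) (_ : 0 < n ∧ Nat.Coprime n p), J n
  have hrange : Set.range π.left ⊆ Set.range I.subschemeι := by
    rw [Scheme.IdealSheafData.range_subschemeι]
    rintro _ ⟨x, rfl⟩
    refine closure_minimal ?_ (I.support.isClosed.preimage π.left.continuous) (hD x)
    intro y hy
    obtain ⟨j, hj⟩ := Set.mem_iUnion.1 hy
    replace hj : (HPow.hPow (α := S ⟶ S) (𝟙 S) (l ^ j)).left (gP.left y) = GrpField.unitPt S := hj
    have hn' : 0 < m * l ^ j ∧ Nat.Coprime (m * l ^ j) p := by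
      refine ⟨Nat.mul_pos (Nat.pos_of_ne_zero fun h => hmk (by rw [h, Nat.cast_zero])) (pow_pos hlp.pos _), ?_⟩
      exact Nat.Coprime.mul_left ((Nat.Prime.coprime_iff_not_dvd hp).2 hm).symm
        (Nat.Coprime.pow_left _ ((Nat.Prime.coprime_iff_not_dvd hp).2 hlp').symm)
    have hle : I ≤ J (m * l ^ j) :=
      iInf₂_le (f := fun (n : ℕ) (_ : 0 < n ∧ Nat.Coprime n p) => J n) (m * l ^ j) hn'
    refine (Scheme.IdealSheafData.support_antitone hle : _ ≤ I.support) ?_
    show π.left y ∈ (((η[G].left.ker).comap (HPow.hPow (α := G ⟶ G) (𝟙 G) (m * l ^ j)).left).support : Set G.left)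
    rw [Scheme.IdealSheafData.support_comap]
    show (HPow.hPow (α := G ⟶ G) (𝟙 G) (m * l ^ j)).left (π.left y) ∈
      ((η[G] : 𝟙_ (Over (Spec (CommRingCat.of k))) ⟶ G).left.ker.support : Set G.left)
    rw [Scheme.Hom.support_ker]
    refine subset_closure ⟨(IsLocalRing.closedPoint k : PrimeSpectrum k), ?_⟩
    have e : π ≫ (HPow.hPow (α := G ⟶ G) (𝟙 G) (m * l ^ j)) = gP ≫ (HPow.hPow (α := S ⟶ S) (𝟙 S) (l ^ j)) ≫ s := by
      rw [MonObj.pow_comp, Category.id_comp, MonObj.comp_pow, MonObj.comp_pow, Category.comp_id,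
        show gP ≫ s = π ^ m by rw [← sq.w, MonObj.comp_pow, Category.comp_id], ← pow_mul]
    rw [← Scheme.Hom.comp_apply π.left, ← Over.comp_left, e, Over.comp_left, Over.comp_left, Scheme.Hom.comp_apply,
      Scheme.Hom.comp_apply, hj]
    show _ = s.left ((η[S] : 𝟙_ (Over (Spec (CommRingCat.of k))) ⟶ S).left _)
    rw [← Scheme.Hom.comp_apply, ← Over.comp_left, IsMonHom.one_hom]
  obtain ⟨ψ, hψ⟩ := AVAmpleLib.exists_lift_of_reduced I.subschemeι π.left hrange
  have hlift : (HPow.hPow (α := G ⟶ G) (𝟙 G) (p ^ a)) ≫ (HPow.hPow (α := G ⟶ G) (𝟙 G) m) = g₀ ≫ s := by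
    rw [hg₀, MonObj.comp_pow, Category.comp_id, ← pow_mul, hnm]
  refine ⟨a, (sq.lift _ g₀ hlift).left ≫ ψ, ?_⟩
  rw [Category.assoc, hψ, ← Over.comp_left, sq.lift_fst]

end TorsClosure

end
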